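import Groth.Agent.L09.SpEtColim.Pieces
import Groth.Agent.L24.Boot.LqfEq

/-!
# Colimits detected on affine etale pieces
-/

universe w v u

open CategoryTheory CategoryTheory.Limits AlgebraicGeometry Opposite AlgSp

set_option autoImplicit false
set_option linter.style.haveILetI false
set_option linter.unusedSectionVars false
set_option linter.unusedVariables false
set_option backward.isDefEq.respectTransparency false
set_option backward.isDefEq.respectTransparency.types false

noncomputable section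

namespace Groth.L09.SpEtColim

open Groth.L23 Groth.L23.StLocal Groth.L09.SpColimit

variable {S : Scheme.{u}} {B : AlgSp.Space S} {I : Type v} [Category.{w} I] {D : I ⥤ Over B} {c : Cocone D}

/-- Maps out of a space over a disjoint union are determined on the pieces. -/
theorem eq_of_sigma {J : Type u} {Vs : J → Over S} (sig : Groth.L24.Boot.SigmaData Vs) {Y X : Sp S}
    (hY : IsAlgSpace Y) (h : Y ⟶ (yon S).obj sig.V) (f g : Y ⟶ X)
    (hj : ∀ (t : J) (T : Over S) (a : (yon S).obj T ⟶ Y) (l : T ⟶ Vs t),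
      (yon S).map (l ≫ sig.inj t) = a ≫ h → a ≫ f = a ≫ g) : f = g := by
  obtain ⟨A, a, hae, has⟩ := hY.atlas
  have : Epi a := epi_of_repWith a hae has
  rw [← cancel_epi a]
  obtain ⟨m, hm⟩ := (yon S).map_surjective (a ≫ h)
  let O : J → A.left.Opens := fun t => m.left ⁻¹ᵁ (sig.inj t).left.opensRange
  let o : ∀ t, Over.mk ((O t).ι ≫ A.hom) ⟶ A := fun t => Over.homMk (O t).ι rfl
  refine hom_ext_cover o (fun x => ?_) fun t => ?_
  · obtain ⟨t, y, hy⟩ := sig.cover (m.left x)
    exact ⟨t, ⟨x, ⟨y, hy⟩⟩, rfl⟩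
  · have hr : Set.range ((O t).ι ≫ m.left) ⊆ Set.range (sig.inj t).left := by
      rintro _ ⟨x, rfl⟩
      exact x.2
    let l : Over.mk ((O t).ι ≫ A.hom) ⟶ Vs t := Over.homMk (IsOpenImmersion.lift (sig.inj t).left _ hr) (by
      show _ = (O t).ι ≫ A.hom
      rw [← Over.w (sig.inj t), IsOpenImmersion.lift_fac_assoc, Category.assoc, Over.w])
    have hl : l ≫ sig.inj t = o t ≫ m := Over.OverMorphism.ext (IsOpenImmersion.lift_fac _ _ _)
    refine ((Category.assoc _ _ _).symm.trans ?_).trans (Category.assoc _ _ _)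
    exact hj t _ _ l (by rw [hl, Functor.map_comp, hm, Category.assoc])

theorem exists_desc_et (h₁ : Descends D c) (h₁' : FullFaith D c) (h₂ : AffTest D c) {X : Sp S} (hX : IsAlgSpace X)
    (xB : X ⟶ B.obj) (g : ∀ i, (D.obj i).left.obj ⟶ X) (hgB : ∀ i, g i ≫ xB = (D.obj i).hom.hom)
    (hg : ∀ {i j : I} (φ : i ⟶ j), (D.map φ).left.hom ≫ g j = g i) :
    ∃ f : apex D c ⟶ X, f ≫ xB = π D c ∧ ∀ i, γ D c i ≫ f = g i := by
  have sp := sp_apex D c
  have hid : IsEtaleMor (𝟙 (apex D c)) := isEtaleMor_of_isIso sp sp _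
  let Good : Set (Points (apex D c)) := {x | ∃ (V : Over S) (v : (yon S).obj V ⟶ apex D c) (fV : (yon S).obj V ⟶ X),
    RepWith @Etale v ∧ fV ≫ xB = v ≫ π D c ∧
    (∀ j, pullback.fst v (γ D c j) ≫ fV = pullback.snd v (γ D c j) ≫ g j) ∧ x ∈ Set.range (Points.ofPt v)}
  let W : TopologicalSpace.Opens (Points (apex D c)) :=
    ⟨Good, isOpen_iff_forall_mem_open.2 fun x ⟨V, v, fV, hv, h₃, h₄, hx⟩ =>
      ⟨Set.range (Points.ofPt v), fun y hy => ⟨V, v, fV, hv, h₃, h₄, hy⟩, (isOpenMap_ofPt hv).isOpen_range, hx⟩⟩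
  have hW : ∀ i (y : Points (D.obj i).left.obj), Points.map (γ D c i) y ∈ W := by
    intro i y
    obtain ⟨B', b, s, hB', hb, hs⟩ := Groth.L09.SpLimit.exists_chart_at B.property (Points.map ((D.obj i).hom.hom) y)
    haveI := hB'
    have sqX := IsPullback.of_hasPullback xB b
    have hX' : IsAlgSpace (pullback xB b) :=
      isAlgSpace_of_isPullback B.property.diag hX (IsAlgSpace.yon_obj B') sqX
    obtain ⟨x', hx', -⟩ := exists_of_isPullback sqX (Points.map (g i) y) (Points.ofScheme B' s) (by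
      rw [← Points.map_comp, hgB, ← hs]
      exact Points.ofPt_eq_map_ofScheme _ _)
    obtain ⟨Z, ζ₀, sZ, hZ, hζ₀, hsZ⟩ := Groth.L09.SpLimit.exists_chart_at hX' x'
    haveI := hZ
    let ζ := ζ₀ ≫ pullback.fst xB b
    have hZs := IsAlgSpace.yon_obj Z
    have hζ : IsEtaleMor ζ := isEtaleMor_comp (isEtaleMor_of_repWith hZs hX' hζ₀)
      (isEtaleMor_snd_of_isPullback (IsAlgSpace.yon_obj B') B.property hX' hX sqX.flip
        (isEtaleMor_of_repWith (IsAlgSpace.yon_obj B') B.property hb))
    obtain ⟨z, hz⟩ := (yon S).map_surjective (ζ₀ ≫ pullback.snd xB b)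
    let F := pbFun D g hg ζ hX hZs
    obtain ⟨y', -, hy'⟩ := exists_of_isPullback (IsPullback.of_hasPullback ζ (g i)) (Points.ofScheme Z sZ) y (by
      show Points.map (ζ₀ ≫ pullback.fst xB b) _ = _
      rw [Points.map_comp, show Points.map ζ₀ (Points.ofScheme Z sZ) = x' from
        (Points.ofPt_eq_map_ofScheme _ _).symm.trans hsZ, hx'])
    obtain ⟨V, v, β', fz, hV, hv, hfz, hβ', hl, hy''⟩ := exists_piece h₁ h₁' h₂ hb z sp (𝟙 _) hid F
      (pbNat D g hg ζ hX hZs) (fun r => pb_cart D g hg ζ hX hZs r)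
      (fun a => isEtaleMor_snd_of_isPullback hZs hX (F.obj a).left.property (D.obj a).left.property
        (IsPullback.of_hasPullback ζ (g a)) hζ)
      (fun a => pullback.snd ζ (g a) ≫ γ D c a)
      (fun {a a'} r => (pbMap_snd_assoc D g hg ζ r _).trans (congrArg (_ ≫ ·) (γ_nat D c r)))
      (fun a => Category.comp_id _)
      (fun a => pullback.fst ζ (g a)) (fun r => pbMap_fst D g hg ζ r)
      (fun a => by
        show pullback.fst ζ (g a) ≫ (yon S).map z ≫ b = pullback.snd ζ (g a) ≫ (D.obj a).hom.hom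
        rw [← hgB, ← pullback.condition_assoc, hz, Category.assoc, ← pullback.condition]
        simp [ζ]) i y'
    refine ⟨V, v, (yon S).map fz ≫ ζ, hv, ?_, fun j => ?_, by rwa [Points.map_comp, hy'] at hy''⟩
    · have e : (yon S).map β' ≫ b = v ≫ π D c := by rw [hβ', Category.id_comp]
      rw [← e, ← hfz, Functor.map_comp, hz]
      simp [ζ, pullback.condition]
    · have key : ∀ {u' : (yon S).obj V ⟶ apex D c}, u' = v ≫ 𝟙 _ → (∀ j, ∃ l : pullback u' (γ D c j) ⟶ (F.obj j).left.obj,
          l ≫ pullback.fst ζ (g j) = pullback.fst u' (γ D c j) ≫ (yon S).map fz ∧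
          l ≫ pullback.snd ζ (g j) = pullback.snd u' (γ D c j)) →
          pullback.fst u' (γ D c j) ≫ (yon S).map fz ≫ ζ = pullback.snd u' (γ D c j) ≫ g j := fun {u'} _ h => by
        obtain ⟨l, hl₁, hl₂⟩ := h j
        rw [← reassoc_of% hl₁, ← hl₂, Category.assoc, pullback.condition]
      have := key rfl fun a => by
        obtain ⟨l, hl₁, -, hl₃⟩ := hl a
        exact ⟨l, hl₁, hl₃⟩
      have gen : ∀ {u' : (yon S).obj V ⟶ apex D c}, u' = v →
          pullback.fst u' (γ D c j) ≫ (yon S).map fz ≫ ζ = pullback.snd u' (γ D c j) ≫ g j →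
          pullback.fst v (γ D c j) ≫ (yon S).map fz ≫ ζ = pullback.snd v (γ D c j) ≫ g j := by
        rintro _ rfl h
        exact h
      exact gen (Category.comp_id v) this
  have hall : ∀ x, x ∈ W := eq_univ h₁' sp (𝟙 _) hid W (fun i y => by
    rw [show pullback.fst (𝟙 _) (γ D c i) = pullback.snd (𝟙 _) (γ D c i) ≫ γ D c i from
      (Category.comp_id _).symm.trans pullback.condition, Points.map_comp]
    exact hW i _)
  obtain ⟨A, a, hae, has⟩ := sp.atlas
  choose Vt vt ft hvt hftB hftg hrange using fun t : ↥A.left => hall (Points.ofPt a t)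
  have hex : ∀ t : ↥A.left, ∃ (P : Over S) (q : P ⟶ A) (fP : (yon S).obj P ⟶ X), Etale q.left ∧ t ∈ Set.range q.left ∧
      fP ≫ xB = ((yon S).map q ≫ a) ≫ π D c ∧
      ∀ j, pullback.fst ((yon S).map q ≫ a) (γ D c j) ≫ fP = pullback.snd ((yon S).map q ≫ a) (γ D c j) ≫ g j := by
    intro t
    obtain ⟨s, hs⟩ := hrange t
    have sq := (hvt t).1.isPullback a
    obtain ⟨w', -, hw'⟩ := exists_point_of_isPullback sq (x := Points.ofScheme (Vt t) s) (u := t) (by
      rw [← hs]
      exact (Points.ofPt_eq_map_ofScheme _ _).symm)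
    refine ⟨_, (hvt t).1.snd a, (hvt t).1.fst a ≫ ft t, repWith_prop (hvt t) sq, ⟨w', hw'⟩, ?_, fun j => ?_⟩
    · rw [Category.assoc, hftB, ← Category.assoc, sq.w]
    · have gen : ∀ q', q' = (yon S).map ((hvt t).1.snd a) ≫ a →
          pullback.fst q' (γ D c j) ≫ (hvt t).1.fst a ≫ ft t = pullback.snd q' (γ D c j) ≫ g j := fun q' hq => by
        let l := pullback.lift (pullback.fst q' (γ D c j) ≫ (hvt t).1.fst a) (pullback.snd q' (γ D c j))
          (f := vt t) (g := γ D c j) ((Category.assoc _ _ _).trans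
            ((congrArg (_ ≫ ·) (sq.w.trans hq.symm)).trans pullback.condition))
        have e := congrArg (l ≫ ·) (hftg t j)
        simpa [l, pullback.lift_fst_assoc, pullback.lift_snd_assoc] using e
      exact gen _ rfl
  choose P q fP hqe hqt hfB hfg using hex
  obtain ⟨sig⟩ := Groth.L24.Boot.exists_sigma P
  obtain ⟨q₀, hq₀⟩ := sig.desc A q
  obtain ⟨f₀, hf₀⟩ := Groth.L24.Boot.exists_glue_sigma sig fP
  haveI : Etale q₀.left := sig.etale_of q₀ fun t => by rw [hq₀]; exact hqe t
  haveI : Surjective q₀.left := ⟨fun t => by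
    obtain ⟨y, hy⟩ := hqt t
    refine ⟨(sig.inj t).left y, ?_⟩
    rw [← Scheme.Hom.comp_apply, ← Over.comp_left, hq₀]
    exact hy⟩
  generalize hv : (yon S).map q₀ ≫ a = v
  have hve : RepWith @Etale v := hv ▸ repWith_comp ((repWith_yon_map_iff _ _).2 (inferInstanceAs (Etale q₀.left))) hae
  have hvs : RepWith @Surjective v :=
    hv ▸ repWith_comp ((repWith_yon_map_iff _ _).2 (inferInstanceAs (Surjective q₀.left))) has
  have hVs := IsAlgSpace.yon_obj sig.V
  have hvE : IsEtaleMor v := isEtaleMor_of_repWith hVs sp hve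
  have : Epi v := epi_of_repWith v hve hvs
  have hinj : ∀ t, (yon S).map (sig.inj t) ≫ v = (yon S).map (q t) ≫ a := fun t => by
    rw [← hv, ← Category.assoc, ← Functor.map_comp, hq₀]
  have hf₀B : f₀ ≫ xB = v ≫ π D c := hom_ext_cover sig.inj sig.cover fun t => by
    rw [reassoc_of% (hf₀ t), hfB, reassoc_of% (hinj t), Category.assoc]
  have hsv : ∀ i, IsAlgSpace (pullback v (γ D c i)) := fun i =>
    isAlgSpace_of_isPullback sp.diag hVs (D.obj i).left.property (IsPullback.of_hasPullback _ _)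
  have hf₀g : ∀ i, pullback.fst v (γ D c i) ≫ f₀ = pullback.snd v (γ D c i) ≫ g i := fun i =>
    eq_of_sigma sig (hsv i) (pullback.fst v (γ D c i)) _ _ fun t T aT l hl => by
      let ll := pullback.lift ((yon S).map l) (aT ≫ pullback.snd v (γ D c i)) (f := (yon S).map (q t) ≫ a)
        (g := γ D c i) (by
          rw [← hinj t, ← Category.assoc, ← Functor.map_comp, hl, Category.assoc, Category.assoc]
          exact congrArg (aT ≫ ·) pullback.condition)
      have e := congrArg (ll ≫ ·) (hfg t i)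
      simp only [ll, pullback.lift_fst_assoc, pullback.lift_snd_assoc, Category.assoc] at e
      rw [← Category.assoc, ← hl, Functor.map_comp, Category.assoc, hf₀]
      exact e
  have sqK := IsPullback.of_hasPullback v v
  have hK : IsAlgSpace (pullback v v) := isAlgSpace_of_isPullback sp.diag hVs hVs sqK
  have hkey : pullback.fst v v ≫ f₀ = pullback.snd v v ≫ f₀ := by
    generalize hk : pullback.fst v v ≫ v = k
    have hke : IsEtaleMor k := hk ▸ isEtaleMor_comp (isEtaleMor_snd_of_isPullback hVs sp hK hVs sqK.flip hvE) hvE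
    have hk₂ : pullback.snd v v ≫ v = k := pullback.condition.symm.trans hk
    refine hom_ext_et h₁ h₁' h₂ hK k hke hX (xB := xB) _ _ ?_ ?_ fun i => ?_
    · rw [Category.assoc, hf₀B, ← Category.assoc, hk]
    · rw [Category.assoc, hf₀B, ← Category.assoc, hk₂]
    · have key : ∀ r : pullback v v ⟶ (yon S).obj sig.V, r ≫ v = k →
          pullback.fst k (γ D c i) ≫ r ≫ f₀ = pullback.snd k (γ D c i) ≫ g i := fun r hr => by
        let ll := pullback.lift (pullback.fst k (γ D c i) ≫ r) (pullback.snd k (γ D c i)) (f := v) (g := γ D c i)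
          ((Category.assoc _ _ _).trans ((congrArg (_ ≫ ·) hr).trans pullback.condition))
        have e := congrArg (ll ≫ ·) (hf₀g i)
        simpa [ll, pullback.lift_fst_assoc, pullback.lift_snd_assoc] using e
      exact (key _ hk).trans (key _ hk₂).symm
  obtain ⟨hcof⟩ := nonempty_isColimit_cofork v sqK
  obtain ⟨f, hf⟩ : ∃ f : apex D c ⟶ X, v ≫ f = f₀ := ⟨_, (Cofork.IsColimit.desc' hcof f₀ hkey).2⟩
  refine ⟨f, ?_, fun i => ?_⟩
  · rw [← cancel_epi v, reassoc_of% hf, hf₀B]
  · have sqi := IsPullback.of_hasPullback v (γ D c i)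
    haveI : Epi (pullback.snd v (γ D c i)) := epi_of_repWith _ (repWith_of_isPullback sqi hve)
      (repWith_of_isPullback sqi hvs)
    rw [← cancel_epi (pullback.snd v (γ D c i)), ← pullback.condition_assoc, hf, hf₀g]

theorem nonempty_isColimit (h₁ : Descends D c) (h₁' : FullFaith D c) (h₂ : AffTest D c) :
    Nonempty (IsColimit c) := by
  have key : ∀ s : Cocone D, ∃ f : apex D c ⟶ s.pt.left.obj,
      f ≫ s.pt.hom.hom = π D c ∧ ∀ i, γ D c i ≫ f = (s.ι.app i).left.hom := fun s =>
    exists_desc_et h₁ h₁' h₂ s.pt.left.property s.pt.hom.hom (fun i => (s.ι.app i).left.hom)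
      (fun i => w' (s.ι.app i)) (fun φ => congrArg (fun m => m.left.hom) (s.w φ))
  choose f hfB hf using key
  have sp := sp_apex D c
  refine ⟨{ desc := fun s => hm (f s) (hfB s)
            fac := fun s i => ext' (hf s i)
            uniq := fun s m hm' => ext' ?_ }⟩
  refine hom_ext_et h₁ h₁' h₂ sp (𝟙 _) (isEtaleMor_of_isIso sp sp _) s.pt.left.property (xB := s.pt.hom.hom)
    m.left.hom (f s) ?_ ?_ fun i => ?_
  · exact (w' m).trans (Category.id_comp _).symm
  · exact (hfB s).trans (Category.id_comp _).symm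
  · have e : γ D c i ≫ m.left.hom = γ D c i ≫ f s := (congrArg (fun x => x.left.hom) (hm' i)).trans (hf s i).symm
    rw [show pullback.fst (𝟙 _) (γ D c i) = pullback.snd (𝟙 _) (γ D c i) ≫ γ D c i from
      (Category.comp_id _).symm.trans pullback.condition, Category.assoc, Category.assoc, e]

end Groth.L09.SpEtColim
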