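import Groth.Agent.L09.SpEtColim.Sys
import Groth.Agent.L09.SpLimit.Points
import Groth.Agent.L24.St.MonoLocal

/-!
# Etale pieces over the apex and the separation statement
-/

universe w v u

open CategoryTheory CategoryTheory.Limits AlgebraicGeometry Opposite AlgSp

set_option autoImplicit false
set_option linter.style.haveILetI false
set_option linter.unusedSectionVars false
set_option linter.unusedVariables false
set_option backward.isDefEq.respectTransparency false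
set_option backward.isDefEq.respectTransparency.types false

noncomputable section

namespace Groth.L09.SpEtColim

open Groth.L23 Groth.L23.StLocal Groth.L09.SpColimit

variable {S : Scheme.{u}} {B : AlgSp.Space S} {I : Type v} [Category.{w} I] {D : I ⥤ Over B} {c : Cocone D}

/-- An open set of points containing the images of the base change system is everything. -/
theorem eq_univ (h₁' : FullFaith D c) {U : Sp S} (hU : IsAlgSpace U) (u : U ⟶ apex D c) (he : IsEtaleMor u)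
    (W : TopologicalSpace.Opens (Points U)) (h : ∀ i y, Points.map (pullback.fst u (γ D c i)) y ∈ W)
    (x : Points U) : x ∈ W := by
  have sp := sp_apex D c
  have hW := isAlgSpace_openSub W hU
  let j := openSubι W
  have hj : RepWith @IsOpenImmersion j := repWith_openSubι W
  have hje : IsEtaleMor j := isEtaleMor_of_repWith hW hU (repWith_mono (Q := (@Etale : MorphismProperty Scheme.{u}))
    (fun φ (_ : IsOpenImmersion φ) => inferInstanceAs (Etale φ)) hj)
  choose l hl using fun i => (exists_factor_iff hj (pullback.fst u (γ D c i))).2 (by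
    rw [range_openSubι]
    rintro _ ⟨y, rfl⟩
    exact h i y)
  have hln : ∀ {i k : I} (φ : i ⟶ k), pbMap D (γ D c) (γ_nat D c) u φ ≫ l k = l i := fun φ => by
    rw [← cancel_mono (openSubι W), Category.assoc, hl, hl]
    exact pbMap_fst D (γ D c) (γ_nat D c) u φ
  obtain ⟨m, ⟨hm₁, hm₂⟩, -⟩ := existsUnique_map h₁' hU hW u (j ≫ u) he (isEtaleMor_comp hje he)
    (pbFun D (γ D c) (γ_nat D c) u sp hU) (pbNat D (γ D c) (γ_nat D c) u sp hU)
    (fun i => pullback.fst u (γ D c i)) (fun φ => pbMap_fst D (γ D c) (γ_nat D c) u φ)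
    (fun i => IsPullback.of_hasPullback _ _) l hln
    (fun i => (Category.assoc _ _ _).symm.trans ((congrArg (· ≫ u) (hl i)).trans pullback.condition))
  obtain ⟨m₀, -, huniq⟩ := existsUnique_map h₁' hU hU u u he he
    (pbFun D (γ D c) (γ_nat D c) u sp hU) (pbNat D (γ D c) (γ_nat D c) u sp hU)
    (fun i => pullback.fst u (γ D c i)) (fun φ => pbMap_fst D (γ D c) (γ_nat D c) u φ)
    (fun i => IsPullback.of_hasPullback _ _) (fun i => pullback.fst u (γ D c i))
    (fun φ => pbMap_fst D (γ D c) (γ_nat D c) u φ) (fun i => pullback.condition)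
  have e : m ≫ j = 𝟙 U := (huniq _ ⟨by rw [Category.assoc]; exact hm₁, fun i => by
    rw [← Category.assoc, hm₂ i]; exact hl i⟩).trans (huniq _ ⟨Category.id_comp _, fun i => Category.comp_id _⟩).symm
  have : x ∈ Set.range (Points.map j) := ⟨Points.map m x, by rw [← Points.map_comp, e, Points.map_id]⟩
  rwa [range_openSubι] at this

/-- Maps out of an etale space over the apex agreeing on enough pieces agree. -/
theorem eq_of_pieces (h₁' : FullFaith D c) {U : Sp S} (hU : IsAlgSpace U) (u : U ⟶ apex D c) (he : IsEtaleMor u)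
    {X : Sp S} (f g : U ⟶ X)
    (h : ∀ i y, ∃ (V : Over S) (v : (yon S).obj V ⟶ U), RepWith @Etale v ∧ v ≫ f = v ≫ g ∧
      Points.map (pullback.fst u (γ D c i)) y ∈ Set.range (Points.ofPt v)) : f = g := by
  let W : TopologicalSpace.Opens (Points U) :=
    ⟨{x | ∃ (V : Over S) (v : (yon S).obj V ⟶ U), RepWith @Etale v ∧ v ≫ f = v ≫ g ∧ x ∈ Set.range (Points.ofPt v)},
      isOpen_iff_forall_mem_open.2 fun x ⟨V, v, hv, hvfg, hx⟩ =>
        ⟨Set.range (Points.ofPt v), fun y hy => ⟨V, v, hv, hvfg, hy⟩, (isOpenMap_ofPt hv).isOpen_range, hx⟩⟩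
  obtain ⟨A, a, hae, has⟩ := hU.atlas
  have : Epi a := epi_of_repWith a hae has
  rw [← cancel_epi a]
  have key : ∀ t : ↥A.left, ∃ (P : Over S) (q : P ⟶ A), Etale q.left ∧ t ∈ Set.range q.left ∧
      (yon S).map q ≫ a ≫ f = (yon S).map q ≫ a ≫ g := by
    intro t
    obtain ⟨V, v, hv, hvfg, s, hs⟩ := eq_univ h₁' hU u he W (fun i y => h i y) (Points.ofPt a t)
    have sq := hv.1.isPullback a
    obtain ⟨w', -, hw'⟩ := exists_point_of_isPullback sq (x := Points.ofScheme V s) (u := t) (by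
      rw [← hs]
      exact (Points.ofPt_eq_map_ofScheme _ _).symm)
    refine ⟨_, hv.1.snd a, repWith_prop hv sq, ⟨w', hw'⟩, ?_⟩
    have e := congrArg (hv.1.fst a ≫ ·) hvfg
    simp only [← Category.assoc] at e ⊢
    rw [← sq.w]
    exact e
  choose P q hqe hq hqfg using key
  exact Groth.L24.St.hom_ext_of_cover P q (fun t => have := hqe t; inferInstance) (fun t => have := hqe t; inferInstance)
    (fun t => ⟨t, hq t⟩) hqfg

/-- An affine etale piece around a point of a cartesian etale system with maps to an affine scheme. -/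
theorem exists_piece (h₁ : Descends D c) (h₁' : FullFaith D c) (h₂ : AffTest D c) {B' T : Over S}
    [IsAffine B'.left] [IsAffine T.left] {b : (yon S).obj B' ⟶ B.obj} (hb : RepWith @Etale b) (z : T ⟶ B')
    {U : Sp S} (hU : IsAlgSpace U) (u : U ⟶ apex D c) (he : IsEtaleMor u)
    (F : I ⥤ Over B) (α : F ⟶ D)
    (hcart : ∀ {i j : I} (φ : i ⟶ j), IsPullback (F.map φ).left.hom (α.app i).left.hom (α.app j).left.hom
      (D.map φ).left.hom)
    (het : ∀ i, IsEtaleMor (α.app i).left.hom)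
    (β : ∀ i, (F.obj i).left.obj ⟶ U) (hβn : ∀ {i j : I} (φ : i ⟶ j), (F.map φ).left.hom ≫ β j = β i)
    (hβ : ∀ i, β i ≫ u = (α.app i).left.hom ≫ γ D c i)
    (φ : ∀ i, (F.obj i).left.obj ⟶ (yon S).obj T) (hφn : ∀ {i j : I} (k : i ⟶ j), (F.map k).left.hom ≫ φ j = φ i)
    (hφ : ∀ i, φ i ≫ (yon S).map z ≫ b = (F.obj i).hom.hom) (i : I) (y : Points (F.obj i).left.obj) :
    ∃ (V : Over S) (v : (yon S).obj V ⟶ U) (β' : V ⟶ B') (fz : V ⟶ T), IsAffine V.left ∧ RepWith @Etale v ∧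
      fz ≫ z = β' ∧ (yon S).map β' ≫ b = v ≫ u ≫ π D c ∧
      (∀ j, ∃ l : pullback (v ≫ u) (γ D c j) ⟶ (F.obj j).left.obj,
        l ≫ φ j = pullback.fst _ _ ≫ (yon S).map fz ∧ l ≫ β j = pullback.fst _ _ ≫ v ∧
        l ≫ (α.app j).left.hom = pullback.snd _ _) ∧
      Points.map (β i) y ∈ Set.range (Points.ofPt v) := by
  have sp := sp_apex D c
  obtain ⟨c', a, hae, hsq⟩ := h₁ F α (fun _ _ k => hcart k) het
  let E : Sp S := c'.pt.left.obj
  have hE : IsAlgSpace E := c'.pt.left.property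
  let ι := fun j => (c'.ι.app j).left.hom
  have hι : ∀ {j k : I} (r : j ⟶ k), (F.map r).left.hom ≫ ι k = ι j := fun r =>
    congrArg (fun m => m.left.hom) (c'.w r)
  obtain ⟨mV, ⟨hmV₁, hmV₂⟩, -⟩ := existsUnique_map h₁' hE hU a.left.hom u hae he F α ι hι hsq β hβn hβ
  have sqB := IsPullback.of_hasPullback (π D c) b
  have hXB : IsAlgSpace (pullback (π D c) b) :=
    isAlgSpace_of_isPullback B.property.diag sp (IsAlgSpace.yon_obj B') sqB
  have hx : IsEtaleMor (pullback.fst (π D c) b) := isEtaleMor_snd_of_isPullback (IsAlgSpace.yon_obj B') B.property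
    hXB sp sqB.flip (isEtaleMor_of_repWith (IsAlgSpace.yon_obj B') B.property hb)
  let βB := fun j => pullback.lift ((α.app j).left.hom ≫ γ D c j) (φ j ≫ (yon S).map z) (f := π D c) (g := b)
    (by rw [Category.assoc, Category.assoc, γ_π, hφ, w' (α.app j)])
  have hβBn : ∀ {j k : I} (r : j ⟶ k), (F.map r).left.hom ≫ βB k = βB j := fun {j k} r => by
    apply pullback.hom_ext
    · simp only [βB, Category.assoc, pullback.lift_fst]
      rw [← Category.assoc, (hcart r).w, Category.assoc, γ_nat]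
    · simp only [βB, Category.assoc, pullback.lift_snd]
      rw [← Category.assoc, hφn r]
  obtain ⟨mB, ⟨hmB₁, hmB₂⟩, -⟩ := existsUnique_map h₁' hE hXB a.left.hom (pullback.fst _ _) hae hx F α ι hι hsq
    βB hβBn (fun j => pullback.lift_fst _ _ _)
  obtain ⟨V, e, t, hV, hee, ht⟩ := Groth.L09.SpLimit.exists_chart_at hE (Points.map (ι i) y)
  haveI := hV
  have hmVe : IsEtaleMor mV := isEtaleMor_cancel hE hU sp (g := u) (by rw [hmV₁]; exact hae) he
  have hve : RepWith @Etale (e ≫ mV) := hmVe e hee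
  obtain ⟨β', hβ'⟩ := (yon S).map_surjective (e ≫ mB ≫ pullback.snd _ _)
  have hβ'b : (yon S).map β' ≫ b = (e ≫ mV) ≫ u ≫ π D c := by
    rw [hβ', Category.assoc, Category.assoc, Category.assoc, ← pullback.condition, reassoc_of% hmV₁,
      reassoc_of% hmB₁]
  have hea : (e ≫ mV) ≫ u = e ≫ a.left.hom := by rw [Category.assoc, hmV₁]
  let l := fun j => (hsq j).lift (pullback.fst ((e ≫ mV) ≫ u) (γ D c j) ≫ e) (pullback.snd _ _)
    (((Category.assoc _ _ _).trans (congrArg (_ ≫ ·) hea.symm)).trans pullback.condition)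
  have hl₁ : ∀ j, l j ≫ ι j = pullback.fst _ _ ≫ e := fun j => (hsq j).lift_fst _ _ _
  have hl₂ : ∀ j, l j ≫ (α.app j).left.hom = pullback.snd _ _ := fun j => (hsq j).lift_snd _ _ _
  have hln : ∀ {j k : I} (r : j ⟶ k),
      pbMap D (γ D c) (γ_nat D c) ((e ≫ mV) ≫ u) r ≫ l k = l j ≫ (F.map r).left.hom := fun {j k} r => by
    refine (hsq k).hom_ext ?_ ?_
    · refine ((Category.assoc _ _ _).trans ?_).trans
        (((congrArg (l j ≫ ·) (hι r)).trans (hl₁ j)).symm.trans (Category.assoc _ _ _).symm)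
      exact (congrArg (_ ≫ ·) (hl₁ k)).trans (pbMap_fst_assoc D (γ D c) (γ_nat D c) _ r e)
    · refine ((Category.assoc _ _ _).trans ((congrArg (_ ≫ ·) (hl₂ k)).trans
        (pbMap_snd D (γ D c) (γ_nat D c) _ r))).trans ?_
      refine Eq.symm ((Category.assoc _ _ _).trans ((congrArg (l j ≫ ·) (hcart r).w).trans ?_))
      exact (Category.assoc _ _ _).symm.trans (congrArg (· ≫ (D.map r).left.hom) (hl₂ j))
  obtain ⟨fz, ⟨hfz₁, hfz₂⟩, -⟩ := existsUnique_affine h₂ hb z β' ((e ≫ mV) ≫ u)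
    (repWith_of_isEtaleMor (isEtaleMor_comp (isEtaleMor_of_repWith (IsAlgSpace.yon_obj V) hU hve) he))
    (by rw [hβ'b, Category.assoc (e ≫ mV) u]) (fun j => l j ≫ φ j)
    (fun {j k} r => (Category.assoc _ _ _).symm.trans ((congrArg (· ≫ φ k) (hln r)).trans
      ((Category.assoc _ _ _).trans (congrArg (l j ≫ ·) (hφn r)))))
    (fun j => by
      rw [hβ', ← reassoc_of% (hl₁ j), reassoc_of% (hmB₂ j)]
      simp [βB])
  refine ⟨V, e ≫ mV, β', fz, hV, hve, hfz₁, hβ'b, fun j => ⟨l j, (hfz₂ j).symm, ?_, hl₂ j⟩, t, ?_⟩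
  · rw [← hmV₂ j, reassoc_of% (hl₁ j)]
  · rw [← Points.map_ofPt, ht, ← Points.map_comp, hmV₂]

/-- Maps out of an etale space over the apex agreeing on the base change system agree. -/
theorem hom_ext_et (h₁ : Descends D c) (h₁' : FullFaith D c) (h₂ : AffTest D c) {K : Sp S} (hK : IsAlgSpace K)
    (k : K ⟶ apex D c) (hk : IsEtaleMor k) {X : Sp S} (hX : IsAlgSpace X) {xB : X ⟶ B.obj} (f g : K ⟶ X)
    (wf : f ≫ xB = k ≫ π D c) (wg : g ≫ xB = k ≫ π D c)
    (h : ∀ i, pullback.fst k (γ D c i) ≫ f = pullback.fst k (γ D c i) ≫ g) : f = g := by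
  have sp := sp_apex D c
  refine eq_of_pieces h₁' hK k hk f g fun i y => ?_
  generalize hκ : Points.map (pullback.fst k (γ D c i)) y = κ
  obtain ⟨B', b, s, hB', hb, hs⟩ := Groth.L09.SpLimit.exists_chart_at B.property (Points.map (k ≫ π D c) κ)
  haveI := hB'
  have hbE : IsEtaleMor b := isEtaleMor_of_repWith (IsAlgSpace.yon_obj B') B.property hb
  -- base change to `B'`
  have sq₀ := IsPullback.of_hasPullback (k ≫ π D c) b
  have hP₀ : IsAlgSpace (pullback (k ≫ π D c) b) :=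
    isAlgSpace_of_isPullback B.property.diag hK (IsAlgSpace.yon_obj B') sq₀
  obtain ⟨κ₀, hκ₀, -⟩ := exists_of_isPullback sq₀ κ (Points.ofScheme B' s) (by
    rw [← hs]
    exact Points.ofPt_eq_map_ofScheme _ _)
  have sqX := IsPullback.of_hasPullback xB b
  have hX' : IsAlgSpace (pullback xB b) :=
    isAlgSpace_of_isPullback B.property.diag hX (IsAlgSpace.yon_obj B') sqX
  let F₁ : pullback (k ≫ π D c) b ⟶ pullback xB b :=
    pullback.lift (pullback.fst _ _ ≫ f) (pullback.snd _ _) (by rw [Category.assoc, wf]; exact pullback.condition)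
  let G₁ : pullback (k ≫ π D c) b ⟶ pullback xB b :=
    pullback.lift (pullback.fst _ _ ≫ g) (pullback.snd _ _) (by rw [Category.assoc, wg]; exact pullback.condition)
  -- the two charts
  obtain ⟨Z₁, ζ₁, s₁, hZ₁, hζ₁, hs₁⟩ := Groth.L09.SpLimit.exists_chart_at hX' (Points.map F₁ κ₀)
  obtain ⟨Z₂, ζ₂, s₂, hZ₂, hζ₂, hs₂⟩ := Groth.L09.SpLimit.exists_chart_at hX' (Points.map G₁ κ₀)
  haveI := hZ₁
  haveI := hZ₂
  have sq₁ := IsPullback.of_hasPullback ζ₁ F₁
  have hP₁ : IsAlgSpace (pullback ζ₁ F₁) := isAlgSpace_of_isPullback hX'.diag (IsAlgSpace.yon_obj Z₁) hP₀ sq₁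
  obtain ⟨κ₁, -, hκ₁⟩ := exists_of_isPullback sq₁ (Points.ofScheme Z₁ s₁) κ₀ (by
    rw [← hs₁]
    exact (Points.ofPt_eq_map_ofScheme _ _).symm)
  have sq₂ := IsPullback.of_hasPullback ζ₂ (pullback.snd ζ₁ F₁ ≫ G₁)
  have hP₂ : IsAlgSpace (pullback ζ₂ (pullback.snd ζ₁ F₁ ≫ G₁)) :=
    isAlgSpace_of_isPullback hX'.diag (IsAlgSpace.yon_obj Z₂) hP₁ sq₂
  obtain ⟨κ₂, -, hκ₂⟩ := exists_of_isPullback sq₂ (Points.ofScheme Z₂ s₂) κ₁ (by
    rw [Points.map_comp, hκ₁, ← hs₂]
    exact (Points.ofPt_eq_map_ofScheme _ _).symm)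
  obtain ⟨V, e, t, hV, hee, ht⟩ := Groth.L09.SpLimit.exists_chart_at hP₂ κ₂
  haveI := hV
  let p := pullback.snd ζ₂ (pullback.snd ζ₁ F₁ ≫ G₁) ≫ pullback.snd ζ₁ F₁ ≫ pullback.fst (k ≫ π D c) b
  have hpe : IsEtaleMor p := isEtaleMor_comp
    (isEtaleMor_snd_of_isPullback (IsAlgSpace.yon_obj Z₂) hX' hP₂ hP₁ sq₂
      (isEtaleMor_of_repWith (IsAlgSpace.yon_obj Z₂) hX' hζ₂))
    (isEtaleMor_comp (isEtaleMor_snd_of_isPullback (IsAlgSpace.yon_obj Z₁) hX' hP₁ hP₀ sq₁
      (isEtaleMor_of_repWith (IsAlgSpace.yon_obj Z₁) hX' hζ₁))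
      (isEtaleMor_snd_of_isPullback (IsAlgSpace.yon_obj B') B.property hP₀ hK sq₀.flip hbE))
  refine ⟨V, e ≫ p, hpe e hee, ?_, t, ?_⟩
  swap
  · rw [← Points.map_ofPt, ht]
    simp only [p, Points.map_comp, hκ₂, hκ₁, hκ₀]
  obtain ⟨r₂, hr₂⟩ := (yon S).map_surjective (e ≫ pullback.fst ζ₂ (pullback.snd ζ₁ F₁ ≫ G₁))
  obtain ⟨r₁, hr₁⟩ := (yon S).map_surjective
    (e ≫ pullback.snd ζ₂ (pullback.snd ζ₁ F₁ ≫ G₁) ≫ pullback.fst ζ₁ F₁)
  obtain ⟨β, hβ⟩ := (yon S).map_surjective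
    (e ≫ pullback.snd ζ₂ (pullback.snd ζ₁ F₁ ≫ G₁) ≫ pullback.snd ζ₁ F₁ ≫ pullback.snd (k ≫ π D c) b)
  obtain ⟨z₁, hz₁⟩ := (yon S).map_surjective (ζ₁ ≫ pullback.snd xB b)
  obtain ⟨z₂, hz₂⟩ := (yon S).map_surjective (ζ₂ ≫ pullback.snd xB b)
  set v := e ≫ p with hv
  have E₁f : (yon S).map r₁ ≫ ζ₁ ≫ pullback.fst xB b = v ≫ f := by
    simp [hr₁, hv, p, F₁, pullback.condition_assoc]
  have E₂f : (yon S).map r₂ ≫ ζ₂ ≫ pullback.fst xB b = v ≫ g := by
    simp [hr₂, hv, p, G₁, pullback.condition_assoc]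
  have E₁s : (yon S).map r₁ ≫ ζ₁ ≫ pullback.snd xB b = (yon S).map β := by
    simp [hr₁, hβ, F₁, pullback.condition_assoc]
  have E₂s : (yon S).map r₂ ≫ ζ₂ ≫ pullback.snd xB b = (yon S).map β := by
    simp [hr₂, hβ, G₁, pullback.condition_assoc]
  have hbv : (yon S).map β ≫ b = v ≫ k ≫ π D c := by
    simp [hv, p, hβ, pullback.condition]
  suffices (yon S).map r₁ ≫ ζ₁ = (yon S).map r₂ ≫ ζ₂ by
    rw [← E₁f, ← E₂f, reassoc_of% this]
  -- equality on pieces of `V`
  have hVs := IsAlgSpace.yon_obj V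
  have hvk : IsEtaleMor (v ≫ k) := isEtaleMor_comp (isEtaleMor_of_repWith hVs hK (hpe e hee)) hk
  refine eq_of_pieces h₁' hVs (v ≫ k) hvk _ _ fun j yj => ?_
  let q₁ := hζ₁.1.fst' ζ₂
  let q₂ := hζ₁.1.snd ζ₂
  have sqR : IsPullback ((yon S).map q₁) ((yon S).map q₂) ζ₁ ζ₂ := hζ₁.1.isPullback' ζ₂
  let m := fun a => sqR.lift (pullback.fst (v ≫ k) (γ D c a) ≫ (yon S).map r₁)
    (pullback.fst (v ≫ k) (γ D c a) ≫ (yon S).map r₂) (by
      apply pullback.hom_ext
      · simp only [Category.assoc, E₁f, E₂f]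
        have := congrArg (pullback.lift (pullback.fst (v ≫ k) (γ D c a) ≫ v) (pullback.snd _ _)
          (f := k) (g := γ D c a) ((Category.assoc _ _ _).trans pullback.condition) ≫ ·) (h a)
        simpa [pullback.lift_fst_assoc] using this
      · simp only [Category.assoc, E₁s, E₂s])
  let F₀ := pbFun D (γ D c) (γ_nat D c) (v ≫ k) sp hVs
  have hm : ∀ {a a' : I} (r : a ⟶ a'), (F₀.map r).left.hom ≫ m a' = m a := fun r => by
    refine sqR.hom_ext ?_ ?_
    · refine ((Category.assoc _ _ _).trans (congrArg (_ ≫ ·) (sqR.lift_fst _ _ _))).trans ?_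
      exact (pbMap_fst_assoc D (γ D c) (γ_nat D c) (v ≫ k) r _).trans (sqR.lift_fst _ _ _).symm
    · refine ((Category.assoc _ _ _).trans (congrArg (_ ≫ ·) (sqR.lift_snd _ _ _))).trans ?_
      exact (pbMap_fst_assoc D (γ D c) (γ_nat D c) (v ≫ k) r _).trans (sqR.lift_snd _ _ _).symm
  have hR := IsAlgSpace.yon_obj (hζ₁.1.pullback ζ₂)
  obtain ⟨W, w, sW, hW, hwe, hsW⟩ := Groth.L09.SpLimit.exists_chart_at hR (Points.map (m j) yj)
  haveI := hW
  obtain ⟨y', -, hy'⟩ := exists_of_isPullback (IsPullback.of_hasPullback w (m j)) (Points.ofScheme W sW) yj (by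
    rw [← hsW]
    exact (Points.ofPt_eq_map_ofScheme _ _).symm)
  obtain ⟨z, hz⟩ := (yon S).map_surjective (w ≫ (yon S).map q₁ ≫ (yon S).map z₁)
  let F := pbFun F₀ m hm w hR (IsAlgSpace.yon_obj W)
  let αF : F ⟶ D := pbNat F₀ m hm w hR (IsAlgSpace.yon_obj W) ≫ pbNat D (γ D c) (γ_nat D c) (v ≫ k) sp hVs
  have hφb : ∀ a, pullback.fst w (m a) ≫ (yon S).map z ≫ b = pullback.snd w (m a) ≫ (F₀.obj a).hom.hom := fun a => by
    rw [hz]
    simp only [Category.assoc]
    rw [pullback.condition_assoc]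
    refine congrArg (pullback.snd w (m a) ≫ ·) ?_
    show m a ≫ (yon S).map q₁ ≫ (yon S).map z₁ ≫ b = pullback.snd _ _ ≫ (D.obj a).hom.hom
    rw [hz₁, ← γ_π D c a, ← pullback.condition_assoc]
    simp only [m, IsPullback.lift_fst_assoc, Category.assoc]
    rw [reassoc_of% E₁s, hbv]
  obtain ⟨V', v', β', fz, hV', hv', hfz, hβ', hl, hy''⟩ := exists_piece h₁ h₁' h₂ hb z hVs (v ≫ k) hvk F αF
    (fun {a a'} r => (pb_cart F₀ m hm w hR (IsAlgSpace.yon_obj W) r).paste_vert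
      (pb_cart D (γ D c) (γ_nat D c) (v ≫ k) sp hVs r))
    (fun a => isEtaleMor_comp
      (isEtaleMor_snd_of_isPullback (IsAlgSpace.yon_obj W) hR (F.obj a).left.property (F₀.obj a).left.property
        (IsPullback.of_hasPullback w (m a)) (isEtaleMor_of_repWith (IsAlgSpace.yon_obj W) hR hwe))
      (isEtaleMor_snd_of_isPullback hVs sp (F₀.obj a).left.property (D.obj a).left.property
        (IsPullback.of_hasPullback (v ≫ k) (γ D c a)) hvk))
    (fun a => pullback.snd w (m a) ≫ pullback.fst (v ≫ k) (γ D c a))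
    (fun {a a'} r => by
      refine (pbMap_snd_assoc F₀ m hm w r _).trans ?_
      exact congrArg (_ ≫ ·) (pbMap_fst D (γ D c) (γ_nat D c) (v ≫ k) r))
    (fun a => (Category.assoc _ _ _).trans
      ((congrArg (pullback.snd w (m a) ≫ ·) pullback.condition).trans (Category.assoc _ _ _).symm))
    (fun a => pullback.fst w (m a)) (fun r => pbMap_fst F₀ m hm w r) hφb j y'
  refine ⟨V', v', hv', ?_, by rwa [Points.map_comp, hy'] at hy''⟩
  haveI := hV'
  obtain ⟨cv, rfl⟩ := (yon S).map_surjective v'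
  let u' := (yon S).map cv ≫ v ≫ k
  have hu'e : IsEtaleMor u' := isEtaleMor_comp
    (isEtaleMor_of_repWith (IsAlgSpace.yon_obj V') hVs hv') hvk
  have hu' : RepWith @Etale u' := repWith_of_isEtaleMor hu'e
  choose l hl₁ hl₂ hl₃ using hl
  have hlm : ∀ a, l a ≫ pullback.snd w (m a) ≫ pullback.fst (v ≫ k) (γ D c a) =
      pullback.fst u' (γ D c a) ≫ (yon S).map cv := hl₂
  have hq₁ : ∀ a, pullback.fst u' (γ D c a) ≫ (yon S).map fz ≫ w ≫ (yon S).map q₁ =
      pullback.fst u' (γ D c a) ≫ (yon S).map (cv ≫ r₁) := fun a => by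
    rw [← reassoc_of% (hl₁ a), pullback.condition_assoc, show m a ≫ (yon S).map q₁ = _ from sqR.lift_fst _ _ _,
      reassoc_of% (hlm a), ← Functor.map_comp]
  have hq₂ : ∀ a, pullback.fst u' (γ D c a) ≫ (yon S).map fz ≫ w ≫ (yon S).map q₂ =
      pullback.fst u' (γ D c a) ≫ (yon S).map (cv ≫ r₂) := fun a => by
    rw [← reassoc_of% (hl₁ a), pullback.condition_assoc, show m a ≫ (yon S).map q₂ = _ from sqR.lift_snd _ _ _,
      reassoc_of% (hlm a), ← Functor.map_comp]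
  have hr₁z : r₁ ≫ z₁ = β := (yon S).map_injective (by rw [Functor.map_comp, hz₁]; exact E₁s)
  have hr₂z : r₂ ≫ z₂ = β := (yon S).map_injective (by rw [Functor.map_comp, hz₂]; exact E₂s)
  have hββ : β' = cv ≫ β := by
    refine (yon S).map_injective (base_ext h₁' (IsAlgSpace.yon_obj V') u' hu'e hb _ _ ?_ ?_ fun a => ?_)
    · rw [hβ']
      simp [u']
    · rw [Functor.map_comp, Category.assoc, hbv]
      simp [u']
    · rw [← hfz, Functor.map_comp, hz, reassoc_of% (hq₁ a)]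
      simp [← Functor.map_comp, hr₁z]
  obtain ⟨w₀, hw₀⟩ := (yon S).map_surjective w
  have hzq₁ : w₀ ≫ q₁ ≫ z₁ = z := (yon S).map_injective (by
    rw [Functor.map_comp, Functor.map_comp, hw₀, hz])
  have hzq₂ : w₀ ≫ q₂ ≫ z₂ = z := by
    rw [← hzq₁]
    refine congrArg (w₀ ≫ ·) ((yon S).map_injective ?_)
    rw [Functor.map_comp, Functor.map_comp, hz₁, hz₂]
    exact (sqR.w_assoc _).symm
  have hu'b : (yon S).map β' ≫ b = u' ≫ π D c := by rw [hβ']; simp [u']
  have uniq₁ : fz ≫ w₀ ≫ q₁ = cv ≫ r₁ := by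
    obtain ⟨_, -, huniq⟩ := existsUnique_affine h₂ hb z₁ β' u' hu' hu'b
      (fun a => pullback.fst u' (γ D c a) ≫ (yon S).map (cv ≫ r₁))
      (fun r => pbMap_fst_assoc D (γ D c) (γ_nat D c) u' r _)
      (fun a => (Category.assoc _ _ _).trans (congrArg (_ ≫ ·) (((yon S).map_comp _ _).symm.trans
        (congrArg (yon S).map ((Category.assoc _ _ _).trans ((congrArg (cv ≫ ·) hr₁z).trans hββ.symm))))))
    exact (huniq _ ⟨by rw [Category.assoc, Category.assoc, hzq₁, hfz], fun a => by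
        rw [Functor.map_comp, Functor.map_comp, hw₀]; exact hq₁ a⟩).trans
      (huniq _ ⟨by rw [Category.assoc, hr₁z, hββ], fun a => rfl⟩).symm
  have uniq₂ : fz ≫ w₀ ≫ q₂ = cv ≫ r₂ := by
    obtain ⟨_, -, huniq⟩ := existsUnique_affine h₂ hb z₂ β' u' hu' hu'b
      (fun a => pullback.fst u' (γ D c a) ≫ (yon S).map (cv ≫ r₂))
      (fun r => pbMap_fst_assoc D (γ D c) (γ_nat D c) u' r _)
      (fun a => (Category.assoc _ _ _).trans (congrArg (_ ≫ ·) (((yon S).map_comp _ _).symm.trans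
        (congrArg (yon S).map ((Category.assoc _ _ _).trans ((congrArg (cv ≫ ·) hr₂z).trans hββ.symm))))))
    exact (huniq _ ⟨by rw [Category.assoc, Category.assoc, hzq₂, hfz], fun a => by
        rw [Functor.map_comp, Functor.map_comp, hw₀]; exact hq₂ a⟩).trans
      (huniq _ ⟨by rw [Category.assoc, hr₂z, hββ], fun a => rfl⟩).symm
  rw [← Functor.map_comp_assoc, ← Functor.map_comp_assoc, ← uniq₁, ← uniq₂]
  simp only [Functor.map_comp, Category.assoc]
  rw [sqR.w]

end Groth.L09.SpEtColim
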