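import Groth.Agent.L09.SpColimit.Relative
import Groth.Agent.L23.OpenSub

/-!
# Systems of etale spaces over a cocone
-/

universe w v u

open CategoryTheory CategoryTheory.Limits AlgebraicGeometry Opposite AlgSp

set_option autoImplicit false
set_option linter.style.haveILetI false
set_option linter.unusedSectionVars false
set_option linter.unusedVariables false
set_option backward.isDefEq.respectTransparency false
set_option backward.isDefEq.respectTransparency.types false

noncomputable section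

namespace Groth.L09.SpEtColim

open Groth.L23 Groth.L23.StLocal Groth.L09.SpColimit

variable {S : Scheme.{u}} {B : AlgSp.Space S}

/-- An object over `B` from a space mapping to `B`. -/
abbrev ob {Z : Sp S} (hZ : IsAlgSpace Z) (z : Z ⟶ B.obj) : Over B :=
  Over.mk (Y := (⟨Z, hZ⟩ : AlgSp.Space S)) (ObjectProperty.homMk z)

/-- A morphism over `B` from a morphism of sheaves. -/
abbrev hm {T T' : Over B} (f : T.left.obj ⟶ T'.left.obj) (w : f ≫ T'.hom.hom = T.hom.hom) : T ⟶ T' :=
  Over.homMk (ObjectProperty.homMk f) (ObjectProperty.hom_ext _ w)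

theorem w' {T T' : Over B} (f : T ⟶ T') : f.left.hom ≫ T'.hom.hom = T.hom.hom :=
  congrArg (fun m => m.hom) (Over.w f)

theorem ext' {T T' : Over B} {f g : T ⟶ T'} (h : f.left.hom = g.left.hom) : f = g :=
  Over.OverMorphism.ext (ObjectProperty.hom_ext _ h)

theorem comp' {T T' T'' : Over B} (f : T ⟶ T') (g : T' ⟶ T'') : (f ≫ g).left.hom = f.left.hom ≫ g.left.hom := rfl

variable {I : Type v} [Category.{w} I]

section

variable (F : I ⥤ Over B) {X Z : Sp S} (g : ∀ i, (F.obj i).left.obj ⟶ X)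
  (hg : ∀ {i j : I} (φ : i ⟶ j), (F.map φ).left.hom ≫ g j = g i) (ζ : Z ⟶ X) (hX : IsAlgSpace X) (hZ : IsAlgSpace Z)

/-- The transition maps of a pullback system. -/
def pbMap {i j : I} (φ : i ⟶ j) : pullback ζ (g i) ⟶ pullback ζ (g j) :=
  pullback.lift (pullback.fst _ _) (pullback.snd _ _ ≫ (F.map φ).left.hom)
    (by rw [Category.assoc, hg φ]; exact pullback.condition)

@[reassoc]
theorem pbMap_fst {i j : I} (φ : i ⟶ j) :
    pbMap F g hg ζ φ ≫ pullback.fst ζ (g j) = pullback.fst ζ (g i) := pullback.lift_fst _ _ _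

@[reassoc]
theorem pbMap_snd {i j : I} (φ : i ⟶ j) :
    pbMap F g hg ζ φ ≫ pullback.snd ζ (g j) = pullback.snd ζ (g i) ≫ (F.map φ).left.hom := pullback.lift_snd _ _ _

include hX hZ in
theorem pb_sp (i : I) : IsAlgSpace (pullback ζ (g i)) :=
  isAlgSpace_of_isPullback hX.diag hZ (F.obj i).left.property (IsPullback.of_hasPullback _ _)

/-- The pullback of a system along a map to the common target. -/
def pbFun : I ⥤ Over B where
  obj i := ob (pb_sp F g ζ hX hZ i) (pullback.snd ζ (g i) ≫ (F.obj i).hom.hom)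
  map {i j} φ := hm (pbMap F g hg ζ φ) (by
    refine (pbMap_snd_assoc F g hg ζ φ _).trans ?_
    rw [w' (F.map φ)]
    rfl)
  map_id i := ext' (pullback.hom_ext ((pbMap_fst F g hg ζ _).trans (Category.id_comp _).symm)
    ((pbMap_snd F g hg ζ _).trans (by
      rw [CategoryTheory.Functor.map_id]
      exact (Category.comp_id _).trans (Category.id_comp _).symm)))
  map_comp {i j l} φ ψ := ext' (pullback.hom_ext
    ((pbMap_fst F g hg ζ _).trans (by
      refine ((Category.assoc _ _ _).trans ?_).symm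
      exact (congrArg (pbMap F g hg ζ φ ≫ ·) (pbMap_fst F g hg ζ ψ)).trans (pbMap_fst F g hg ζ φ)))
    ((pbMap_snd F g hg ζ _).trans (by
      refine ((Category.assoc _ _ _).trans ?_).symm
      refine (congrArg (pbMap F g hg ζ φ ≫ ·) (pbMap_snd F g hg ζ ψ)).trans ?_
      rw [pbMap_snd_assoc, CategoryTheory.Functor.map_comp]
      rfl)))

/-- Its projection to the system. -/
def pbNat : pbFun F g hg ζ hX hZ ⟶ F where
  app i := hm (pullback.snd ζ (g i)) rfl
  naturality i j φ := ext' (pbMap_snd F g hg ζ φ)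

theorem pbNat_app (i : I) : ((pbNat F g hg ζ hX hZ).app i).left.hom = pullback.snd ζ (g i) := rfl

theorem pb_cart {i j : I} (φ : i ⟶ j) : IsPullback ((pbFun F g hg ζ hX hZ).map φ).left.hom
    ((pbNat F g hg ζ hX hZ).app i).left.hom ((pbNat F g hg ζ hX hZ).app j).left.hom (F.map φ).left.hom := by
  refine IsPullback.of_right ?_ (pbMap_snd F g hg ζ φ) (IsPullback.of_hasPullback ζ (g j))
  show IsPullback (pbMap F g hg ζ φ ≫ pullback.fst _ _) (pullback.snd _ _) ζ ((F.map φ).left.hom ≫ g j)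
  rw [pbMap_fst, hg φ]
  exact IsPullback.of_hasPullback _ _

end

variable (D : I ⥤ Over B) (c : Cocone D)

/-- The apex. -/
abbrev apex : Sp S := c.pt.left.obj

/-- Its structure map. -/
abbrev π : apex D c ⟶ B.obj := c.pt.hom.hom

/-- The legs. -/
abbrev γ (i : I) : (D.obj i).left.obj ⟶ apex D c := (c.ι.app i).left.hom

theorem γ_π (i : I) : γ D c i ≫ π D c = (D.obj i).hom.hom := w' (c.ι.app i)

theorem γ_nat {i j : I} (φ : i ⟶ j) : (D.map φ).left.hom ≫ γ D c j = γ D c i :=
  congrArg (fun m => m.left.hom) (c.w φ)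

theorem sp_apex : IsAlgSpace (apex D c) := c.pt.left.property

/-- Descent of cartesian etale systems. -/
def Descends : Prop :=
  ∀ (D' : I ⥤ Over B) (α : D' ⟶ D),
    (∀ ⦃i j : I⦄ (g : i ⟶ j), IsPullback (D'.map g).left.hom (α.app i).left.hom (α.app j).left.hom (D.map g).left.hom) →
    (∀ i, AlgSp.IsEtaleMor (α.app i).left.hom) →
      ∃ (c' : Cocone D') (a : c'.pt ⟶ c.pt), AlgSp.IsEtaleMor a.left.hom ∧
        ∀ i, IsPullback (c'.ι.app i).left.hom (α.app i).left.hom a.left.hom (c.ι.app i).left.hom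

/-- Morphisms of etale spaces over the apex are morphisms of systems. -/
def FullFaith : Prop :=
  ∀ (U U' : Over B) (u : U ⟶ c.pt) (u' : U' ⟶ c.pt), AlgSp.IsEtaleMor u.left.hom → AlgSp.IsEtaleMor u'.left.hom →
    ∀ (DU DU' : I ⥤ Over B) (αU : DU ⟶ D) (αU' : DU' ⟶ D) (ιU : DU ⟶ (Functor.const I).obj U)
      (ιU' : DU' ⟶ (Functor.const I).obj U'),
      (∀ i, IsPullback (ιU.app i).left.hom (αU.app i).left.hom u.left.hom (c.ι.app i).left.hom) →
      (∀ i, IsPullback (ιU'.app i).left.hom (αU'.app i).left.hom u'.left.hom (c.ι.app i).left.hom) →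
      ∀ (β : DU ⟶ DU'), β ≫ αU' = αU →
        ∃! m : U ⟶ U', m ≫ u' = u ∧ ∀ i, ιU.app i ≫ m = β.app i ≫ ιU'.app i

/-- The test against affine schemes. -/
def AffTest : Prop :=
  ∀ (B' Zs Us : Over S) (b : (AlgSp.yon S).obj B' ⟶ B.obj) (z : Zs ⟶ B') {XB : AlgSp.Space S}
    (x₁ : XB ⟶ c.pt.left) (x₂ : XB.obj ⟶ (AlgSp.yon S).obj B') (uu : (AlgSp.yon S).obj Us ⟶ XB.obj)
    (DU : I ⥤ AlgSp.Space S) (αU : DU ⟶ D ⋙ Over.forget B)
    (ιU : DU ⟶ (Functor.const I).obj ((AlgSp.ofScheme S).obj Us))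
    (φ : DU ⟶ (Functor.const I).obj ((AlgSp.ofScheme S).obj Zs)),
    IsAffine B'.left → IsAffine Zs.left → IsAffine Us.left → AlgSp.RepWith @Etale b →
    IsPullback x₁.hom x₂ c.pt.hom.hom b → AlgSp.RepWith @Etale uu →
    (∀ i, IsPullback (ιU.app i).hom (αU.app i).hom (uu ≫ x₁.hom) (c.ι.app i).left.hom) →
    (∀ i, (φ.app i).hom ≫ (AlgSp.yon S).map z = (ιU.app i).hom ≫ uu ≫ x₂) →
      ∃! fz : Us ⟶ Zs, (AlgSp.yon S).map fz ≫ (AlgSp.yon S).map z = uu ≫ x₂ ∧
        ∀ i, (ιU.app i).hom ≫ (AlgSp.yon S).map fz = (φ.app i).hom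

variable {D c}

/-- Maps between etale spaces over the apex are compatible families on a base change system. -/
theorem existsUnique_map (h₁' : FullFaith D c) {U U' : Sp S} (hU : IsAlgSpace U) (hU' : IsAlgSpace U')
    (u : U ⟶ apex D c) (u' : U' ⟶ apex D c) (he : IsEtaleMor u) (he' : IsEtaleMor u')
    (DU : I ⥤ Over B) (α : DU ⟶ D) (ι : ∀ i, (DU.obj i).left.obj ⟶ U)
    (hι : ∀ {i j : I} (φ : i ⟶ j), (DU.map φ).left.hom ≫ ι j = ι i)
    (hsq : ∀ i, IsPullback (ι i) (α.app i).left.hom u (γ D c i))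
    (β : ∀ i, (DU.obj i).left.obj ⟶ U') (hβn : ∀ {i j : I} (φ : i ⟶ j), (DU.map φ).left.hom ≫ β j = β i)
    (hβ : ∀ i, β i ≫ u' = (α.app i).left.hom ≫ γ D c i) :
    ∃! m : U ⟶ U', m ≫ u' = u ∧ ∀ i, ι i ≫ m = β i := by
  let sp := sp_apex D c
  let bcF := pbFun D (γ D c) (γ_nat D c) u' sp hU'
  let UB : Over B := ob hU (u ≫ π D c)
  let UB' : Over B := ob hU' (u' ≫ π D c)
  let ιU : DU ⟶ (Functor.const I).obj UB :=
    { app := fun i => hm (ι i) (by
        show ι i ≫ u ≫ π D c = _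
        rw [(hsq i).w_assoc, γ_π, w' (α.app i)])
      naturality := fun i j φ => ext' ((hι φ).trans (Category.comp_id _).symm) }
  let ιU' : bcF ⟶ (Functor.const I).obj UB' :=
    { app := fun i => hm (pullback.fst u' (γ D c i)) (by
        show pullback.fst _ _ ≫ u' ≫ π D c = pullback.snd _ _ ≫ (D.obj i).hom.hom
        rw [pullback.condition_assoc, γ_π])
      naturality := fun i j φ => ext' ((pbMap_fst D (γ D c) (γ_nat D c) u' φ).trans (Category.comp_id _).symm) }
  let βt : DU ⟶ bcF :=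
    { app := fun i => hm (pullback.lift (β i) (α.app i).left.hom (hβ i)) (by
        show pullback.lift _ _ _ ≫ pullback.snd _ _ ≫ (D.obj i).hom.hom = _
        rw [pullback.lift_snd_assoc, w' (α.app i)])
      naturality := fun i j φ => ext' (pullback.hom_ext
        (((Category.assoc _ _ _).trans ((congrArg (_ ≫ ·) (pullback.lift_fst _ _ _)).trans (hβn φ))).trans
          ((Category.assoc _ _ _).trans ((congrArg (_ ≫ ·) (pbMap_fst D (γ D c) (γ_nat D c) u' φ)).trans
            (pullback.lift_fst _ _ _))).symm)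
        (((Category.assoc _ _ _).trans ((congrArg (_ ≫ ·) (pullback.lift_snd _ _ _)).trans
            (congrArg (fun m => m.left.hom) (α.naturality φ)))).trans
          ((Category.assoc _ _ _).trans ((congrArg (_ ≫ ·) (pbMap_snd D (γ D c) (γ_nat D c) u' φ)).trans
            (pullback.lift_snd_assoc _ _ _ _))).symm)) }
  obtain ⟨m, ⟨hm₁, hm₂⟩, huniq⟩ := h₁' UB UB' (hm u rfl) (hm u' rfl) he he' DU bcF α
    (pbNat D (γ D c) (γ_nat D c) u' sp hU') ιU ιU' hsq (fun i => IsPullback.of_hasPullback _ _) βt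
    (NatTrans.ext (funext fun i => ext' (pullback.lift_snd _ _ _)))
  refine ⟨m.left.hom, ⟨congrArg (fun x => x.left.hom) hm₁,
    fun i => (congrArg (fun x => x.left.hom) (hm₂ i)).trans (pullback.lift_fst _ _ _)⟩, fun m' hm' => ?_⟩
  have hw : m' ≫ u' ≫ π D c = u ≫ π D c := by rw [← Category.assoc, hm'.1]
  exact congrArg (fun x => x.left.hom) (huniq (hm m' hw)
    ⟨ext' hm'.1, fun i => ext' ((hm'.2 i).trans (pullback.lift_fst _ _ _).symm)⟩)

/-- Cancellation for etale morphisms of spaces. -/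
theorem isEtaleMor_cancel {X Y Z : Sp S} (hX : IsAlgSpace X) (hY : IsAlgSpace Y) (hZ : IsAlgSpace Z)
    {f : X ⟶ Y} {g : Y ⟶ Z} (hfg : IsEtaleMor (f ≫ g)) (hg : IsEtaleMor g) : IsEtaleMor f :=
  (isEtaleMor_iff_locP hX hY f).2 (locP_of_comp_of_locP etLocal_etale (Q := @Etale)
    (fun φ ψ h₁ h₂ => by
      have := h₁; have := h₂; exact Etale.of_comp φ ψ) hX hY hZ
    ((isEtaleMor_iff_locP hX hZ _).1 hfg) ((isEtaleMor_iff_locP hY hZ g).1 hg))

theorem repWith_of_isEtaleMor {Y : Sp S} {V : Over S} {f : (yon S).obj V ⟶ Y} (hf : IsEtaleMor f) :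
    RepWith @Etale f := by
  have := hf (𝟙 _) (repWith_id _ V)
  rwa [Category.id_comp] at this

/-- Maps to an etale scheme over the base are determined on a base change system. -/
theorem base_ext (h₁' : FullFaith D c) {U : Sp S} (hU : IsAlgSpace U) (u : U ⟶ apex D c) (he : IsEtaleMor u)
    {B' : Over S} {b : (yon S).obj B' ⟶ B.obj} (hb : RepWith @Etale b) (β₁ β₂ : U ⟶ (yon S).obj B')
    (w₁ : β₁ ≫ b = u ≫ π D c) (w₂ : β₂ ≫ b = u ≫ π D c)
    (h : ∀ i, pullback.fst u (γ D c i) ≫ β₁ = pullback.fst u (γ D c i) ≫ β₂) : β₁ = β₂ := by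
  have sp := sp_apex D c
  have sq := IsPullback.of_hasPullback (π D c) b
  have hXB : IsAlgSpace (pullback (π D c) b) :=
    isAlgSpace_of_isPullback B.property.diag sp (IsAlgSpace.yon_obj B') sq
  have hx : IsEtaleMor (pullback.fst (π D c) b) := isEtaleMor_snd_of_isPullback (IsAlgSpace.yon_obj B') B.property
    hXB sp sq.flip (isEtaleMor_of_repWith (IsAlgSpace.yon_obj B') B.property hb)
  let l := fun i => pullback.lift (pullback.fst u (γ D c i) ≫ u) (pullback.fst u (γ D c i) ≫ β₁)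
    (f := π D c) (g := b) (by rw [Category.assoc, Category.assoc, w₁])
  have hnat : ∀ {i j : I} (φ : i ⟶ j), pbMap D (γ D c) (γ_nat D c) u φ ≫ l j = l i := fun φ => by
    apply pullback.hom_ext <;> simp [l, pbMap_fst_assoc]
  obtain ⟨m, -, huniq⟩ := existsUnique_map h₁' hU hXB u (pullback.fst (π D c) b) he hx
    (pbFun D (γ D c) (γ_nat D c) u sp hU) (pbNat D (γ D c) (γ_nat D c) u sp hU)
    (fun i => pullback.fst u (γ D c i)) (fun φ => pbMap_fst D (γ D c) (γ_nat D c) u φ)
    (fun i => IsPullback.of_hasPullback _ _) l hnat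
    (fun i => (pullback.lift_fst _ _ _).trans pullback.condition)
  have e₁ := huniq (pullback.lift u β₁ w₁.symm) ⟨pullback.lift_fst _ _ _, fun i => by
    apply pullback.hom_ext <;> simp [l]⟩
  have e₂ := huniq (pullback.lift u β₂ w₂.symm) ⟨pullback.lift_fst _ _ _, fun i => by
    apply pullback.hom_ext <;> simp [l, h i]⟩
  simpa using congrArg (· ≫ pullback.snd (π D c) b) (e₁.trans e₂.symm)

/-- The test against affine schemes, for a base change system. -/
theorem existsUnique_affine (h₂ : AffTest D c) {B' Zs Us : Over S} [IsAffine B'.left] [IsAffine Zs.left]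
    [IsAffine Us.left] {b : (yon S).obj B' ⟶ B.obj} (hb : RepWith @Etale b) (z : Zs ⟶ B') (β : Us ⟶ B')
    (u : (yon S).obj Us ⟶ apex D c) (hu : RepWith @Etale u) (hβ : (yon S).map β ≫ b = u ≫ π D c)
    (φ : ∀ i, pullback u (γ D c i) ⟶ (yon S).obj Zs)
    (hφn : ∀ {i j : I} (k : i ⟶ j), pbMap D (γ D c) (γ_nat D c) u k ≫ φ j = φ i)
    (hφ : ∀ i, φ i ≫ (yon S).map z = pullback.fst u (γ D c i) ≫ (yon S).map β) :
    ∃! fz : Us ⟶ Zs, fz ≫ z = β ∧ ∀ i, pullback.fst u (γ D c i) ≫ (yon S).map fz = φ i := by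
  have sp := sp_apex D c
  have hY := IsAlgSpace.yon_obj Us
  have sq := IsPullback.of_hasPullback (π D c) b
  have hXB : IsAlgSpace (pullback (π D c) b) :=
    isAlgSpace_of_isPullback B.property.diag sp (IsAlgSpace.yon_obj B') sq
  have hx : IsEtaleMor (pullback.fst (π D c) b) := isEtaleMor_snd_of_isPullback (IsAlgSpace.yon_obj B') B.property
    hXB sp sq.flip (isEtaleMor_of_repWith (IsAlgSpace.yon_obj B') B.property hb)
  let uu := pullback.lift u ((yon S).map β) hβ.symm
  have huu : RepWith @Etale uu := repWith_of_isEtaleMor (isEtaleMor_cancel hY hXB sp (g := pullback.fst (π D c) b)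
    (by rw [pullback.lift_fst]; exact isEtaleMor_of_repWith hY sp hu) hx)
  let F := pbFun D (γ D c) (γ_nat D c) u sp hY
  let αU : F ⋙ Over.forget B ⟶ D ⋙ Over.forget B :=
    Functor.whiskerRight (pbNat D (γ D c) (γ_nat D c) u sp hY) _
  let ιU : F ⋙ Over.forget B ⟶ (Functor.const I).obj ((AlgSp.ofScheme S).obj Us) :=
    { app := fun i => ObjectProperty.homMk (pullback.fst u (γ D c i))
      naturality := fun i j k => ObjectProperty.hom_ext _
        ((pbMap_fst D (γ D c) (γ_nat D c) u k).trans (Category.comp_id _).symm) }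
  let φU : F ⋙ Over.forget B ⟶ (Functor.const I).obj ((AlgSp.ofScheme S).obj Zs) :=
    { app := fun i => ObjectProperty.homMk (φ i)
      naturality := fun i j k => ObjectProperty.hom_ext _ ((hφn k).trans (Category.comp_id _).symm) }
  have hux : uu ≫ pullback.fst (π D c) b = u := pullback.lift_fst _ _ _
  have hux₂ : uu ≫ pullback.snd (π D c) b = (yon S).map β := pullback.lift_snd _ _ _
  obtain ⟨fz, ⟨e₁, e₂⟩, huniq⟩ := h₂ B' Zs Us b z (XB := ⟨_, hXB⟩) (ObjectProperty.homMk (pullback.fst (π D c) b))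
    (pullback.snd _ _) uu (F ⋙ Over.forget B) αU ιU φU inferInstance inferInstance inferInstance hb sq huu
    (fun i => by
      show IsPullback (pullback.fst u (γ D c i)) (pullback.snd u (γ D c i)) (uu ≫ pullback.fst (π D c) b) (γ D c i)
      rw [hux]
      exact IsPullback.of_hasPullback _ _)
    (fun i => by
      show φ i ≫ (yon S).map z = pullback.fst u (γ D c i) ≫ uu ≫ pullback.snd (π D c) b
      rw [hux₂]
      exact hφ i)
  refine ⟨fz, ⟨(yon S).map_injective (by rw [Functor.map_comp, e₁, hux₂]), e₂⟩,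
    fun fz' h' => huniq fz' ⟨?_, h'.2⟩⟩
  rw [hux₂, ← Functor.map_comp, h'.1]

end Groth.L09.SpEtColim
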